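import Groth.Prelude.Def_W4c1tameactTame
import Groth.Agent.Lib.Hopf.Antipode
import Mathlib.LinearAlgebra.Contraction
import Mathlib.RingTheory.HopfAlgebra.Convolution
import Mathlib.RingTheory.TensorProduct.Maps

/-!
# The relative Hopf module `Hom(A, B)` of a finite projective Hopf algebra
-/

universe u v w

open TensorProduct WithConv

namespace GrothLib.HomComod

variable {k : Type u} [CommRing k] {A : Type v} [CommRing A] [HopfAlgebra k A]

/-- Convolution of linear maps. -/
noncomputable def conv {C : Type*} [CommRing C] [Algebra k C] (f g : A →ₗ[k] C) : A →ₗ[k] C :=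
  (toConv f * toConv g).ofConv

theorem conv_apply {C : Type*} [CommRing C] [Algebra k C] (f g : A →ₗ[k] C) (a : A) :
    conv f g a = LinearMap.mul' k C (TensorProduct.map f g (Coalgebra.comul (R := k) a)) := rfl

theorem conv_assoc {C : Type*} [CommRing C] [Algebra k C] (f g h : A →ₗ[k] C) :
    conv (conv f g) h = conv f (conv g h) := by simp [conv, mul_assoc]

theorem comp_conv {C D : Type*} [CommRing C] [Algebra k C] [CommRing D] [Algebra k D] (Φ : C →ₐ[k] D)
    (f g : A →ₗ[k] C) : Φ.toLinearMap ∘ₗ conv f g = conv (Φ.toLinearMap ∘ₗ f) (Φ.toLinearMap ∘ₗ g) :=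
  LinearMap.algHom_comp_convMul_distrib Φ _ _

variable {B : Type w} [CommRing B] [Algebra k B]

variable (k A B) in
/-- `a ↦ 1 ⊗ S a` -/
noncomputable def jS : A →ₗ[k] B ⊗[k] A :=
  (Algebra.TensorProduct.includeRight : A →ₐ[k] B ⊗[k] A).toLinearMap ∘ₗ HopfAlgebraStruct.antipode k

theorem jS_apply (a : A) : jS k A B a = (1 : B) ⊗ₜ[k] HopfAlgebraStruct.antipode k a := rfl

variable [HopfRep.Comod k A B] [GLin.IsCoactAlg k A B] [Module.Finite k A] [Module.Projective k A]

variable (k A B) in
/-- `Hom(A,B) ⊗ Q = Hom(A, B ⊗ Q)` -/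
noncomputable def E (Q : Type*) [AddCommGroup Q] [Module k Q] : (A →ₗ[k] B) ⊗[k] Q ≃ₗ[k] (A →ₗ[k] B ⊗[k] Q) :=
  rTensorHomEquivHomRTensor k A B Q

theorem E_tmul {Q : Type*} [AddCommGroup Q] [Module k Q] (φ : A →ₗ[k] B) (q : Q) (a : A) :
    E k A B Q (φ ⊗ₜ q) a = φ a ⊗ₜ[k] q := by
  rw [E, rTensorHomEquivHomRTensor_apply]
  rfl

theorem eval_rTensor {Q : Type*} [AddCommGroup Q] [Module k Q] (z : (A →ₗ[k] B) ⊗[k] Q) (a : A) :
    LinearMap.rTensor Q (LinearMap.applyₗ (R := k) a) z = E k A B Q z a := by
  induction z using TensorProduct.induction_on with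
  | zero => simp
  | tmul φ q => rw [E_tmul]; rfl
  | add x y hx hy => rw [map_add, map_add, LinearMap.add_apply, hx, hy]

variable (k A B) in
/-- The coaction on `Hom(A,B)`: `φ ↦ (a ↦ ρ (φ a₁) (1 ⊗ S a₂))`. -/
noncomputable def coact : (A →ₗ[k] B) →ₗ[k] (A →ₗ[k] B) ⊗[k] A :=
  (E k A B A).symm.toLinearMap ∘ₗ
    { toFun := fun φ => conv ((GLin.coactAlgHom k A B).toLinearMap ∘ₗ φ) (jS k A B)
      map_add' := fun φ ψ => by simp [conv, LinearMap.comp_add, toConv_add, add_mul]
      map_smul' := fun c φ => by simp [conv, LinearMap.comp_smul, toConv_smul, smul_mul_assoc] }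

theorem E_coact (φ : A →ₗ[k] B) :
    E k A B A (coact k A B φ) = conv ((GLin.coactAlgHom k A B).toLinearMap ∘ₗ φ) (jS k A B) :=
  (E k A B A).apply_symm_apply _

/-- `(ρ ⊗ id)` followed by reassociation. -/
noncomputable def Ψ : B ⊗[k] A →ₐ[k] B ⊗[k] (A ⊗[k] A) :=
  (Algebra.TensorProduct.assoc k k k B A A).toAlgHom.comp
    (Algebra.TensorProduct.map (GLin.coactAlgHom k A B) (AlgHom.id k A))

theorem coassoc :
    (TensorProduct.assoc k (A →ₗ[k] B) A A).toLinearMap ∘ₗ (coact k A B).rTensor A ∘ₗ coact k A B =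
      (CoalgebraStruct.comul (R := k) (A := A)).lTensor (A →ₗ[k] B) ∘ₗ coact k A B := by
  set S := HopfAlgebraStruct.antipode (R := k) (A := A)
  let Φ : B ⊗[k] A →ₐ[k] B ⊗[k] (A ⊗[k] A) := Algebra.TensorProduct.map (AlgHom.id k B) (Bialgebra.comulAlgHom k A)
  let K : A →ₗ[k] B ⊗[k] (A ⊗[k] A) :=
    ((Algebra.TensorProduct.includeRight : A ⊗[k] A →ₐ[k] B ⊗[k] (A ⊗[k] A)).comp
      Algebra.TensorProduct.includeLeft).toLinearMap ∘ₗ S
  have h1 : ∀ X : (A →ₗ[k] B) ⊗[k] A, E k A B (A ⊗[k] A)
      (TensorProduct.assoc k (A →ₗ[k] B) A A ((coact k A B).rTensor A X)) =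
      conv ((Ψ (k := k) (A := A) (B := B)).toLinearMap ∘ₗ E k A B A X) K := by
    intro X
    induction X using TensorProduct.induction_on with
    | zero => simp [conv]
    | add x y hx hy => simp only [map_add, hx, hy, LinearMap.comp_add, conv, toConv_add, add_mul, ofConv_add]
    | tmul ψ c =>
      refine LinearMap.ext fun a => ?_
      rw [LinearMap.rTensor_tmul]
      have aux : ∀ z : (A →ₗ[k] B) ⊗[k] A, E k A B (A ⊗[k] A) (TensorProduct.assoc k (A →ₗ[k] B) A A (z ⊗ₜ c)) a =
          TensorProduct.assoc k B A A (E k A B A z a ⊗ₜ c) := by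
        intro z
        induction z using TensorProduct.induction_on with
        | zero => simp
        | tmul φ q => simp [E_tmul]
        | add x y hx hy => simp only [TensorProduct.add_tmul, map_add, LinearMap.add_apply, hx, hy]
      rw [aux, E_coact, conv_apply, conv_apply]
      induction Coalgebra.comul (R := k) a using TensorProduct.induction_on with
      | zero => simp
      | add x y hx hy => simp only [map_add, TensorProduct.add_tmul, hx, hy]
      | tmul x y =>
        simp only [TensorProduct.map_tmul, LinearMap.mul'_apply, LinearMap.comp_apply, AlgHom.toLinearMap_apply,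
          E_tmul, jS_apply, K, AlgHom.comp_apply, Algebra.TensorProduct.includeLeft_apply,
          Algebra.TensorProduct.includeRight_apply, Ψ, AlgEquiv.toAlgHom_eq_coe, AlgEquiv.coe_toAlgHom,
          Algebra.TensorProduct.map_tmul, AlgHom.id_apply]
        induction GLin.coactAlgHom k A B (ψ x) using TensorProduct.induction_on with
        | zero => simp
        | add u v hu hv => simp only [add_mul, map_add, TensorProduct.add_tmul, hu, hv]
        | tmul b a' =>
          rw [Algebra.TensorProduct.tmul_mul_tmul, Algebra.TensorProduct.assoc_tmul, TensorProduct.assoc_tmul,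
            Algebra.TensorProduct.tmul_mul_tmul, Algebra.TensorProduct.tmul_mul_tmul, mul_one, mul_one]
  have h2 : ∀ X : (A →ₗ[k] B) ⊗[k] A, E k A B (A ⊗[k] A)
      ((CoalgebraStruct.comul (R := k) (A := A)).lTensor (A →ₗ[k] B) X) = Φ.toLinearMap ∘ₗ E k A B A X := by
    intro X
    induction X using TensorProduct.induction_on with
    | zero => simp
    | add x y hx hy => simp only [map_add, hx, hy, LinearMap.comp_add]
    | tmul ψ c =>
      refine LinearMap.ext fun a => ?_
      simp [E_tmul, Φ]
  have hK : conv ((Ψ (k := k) (A := A) (B := B)).toLinearMap ∘ₗ jS k A B) K = Φ.toLinearMap ∘ₗ jS k A B := by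
    refine LinearMap.ext fun a => ?_
    rw [conv_apply]
    show _ = (1 : B) ⊗ₜ[k] Coalgebra.comul (R := k) (S a)
    rw [GrothLib.Hopf.comul_antipode]
    induction Coalgebra.comul (R := k) a using TensorProduct.induction_on with
    | zero => simp
    | add x y hx hy => simp only [map_add, TensorProduct.tmul_add, hx, hy]
    | tmul x y =>
      simp [jS_apply, K, Ψ, S]
      rw [GLin.IsCoactAlg.coact_one, Algebra.TensorProduct.one_def, TensorProduct.AlgebraTensorModule.assoc_tmul,
        Algebra.TensorProduct.tmul_mul_tmul, Algebra.TensorProduct.tmul_mul_tmul]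
      simp
  have hρ : (Ψ (k := k) (A := A) (B := B)).toLinearMap ∘ₗ (GLin.coactAlgHom k A B).toLinearMap =
      Φ.toLinearMap ∘ₗ (GLin.coactAlgHom k A B).toLinearMap := by
    refine LinearMap.ext fun b => ?_
    exact LinearMap.congr_fun (HopfRep.Comod.coassoc (k := k) (A := A) (V := B)) b
  refine LinearMap.ext fun φ => (E k A B (A ⊗[k] A)).injective ?_
  show E k A B (A ⊗[k] A) (TensorProduct.assoc k (A →ₗ[k] B) A A ((coact k A B).rTensor A (coact k A B φ))) =
    E k A B (A ⊗[k] A) ((CoalgebraStruct.comul (R := k) (A := A)).lTensor (A →ₗ[k] B) (coact k A B φ))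
  rw [h1, h2, E_coact, comp_conv, comp_conv, conv_assoc, hK, ← LinearMap.comp_assoc, hρ, LinearMap.comp_assoc]

theorem counit_comp :
    (CoalgebraStruct.counit (R := k) (A := A)).lTensor (A →ₗ[k] B) ∘ₗ coact k A B =
      (TensorProduct.mk k (A →ₗ[k] B) k).flip 1 := by
  refine LinearMap.ext fun φ => (E k A B k).injective (LinearMap.ext fun a => ?_)
  let Φ : B ⊗[k] A →ₐ[k] B ⊗[k] k := Algebra.TensorProduct.map (AlgHom.id k B) (Bialgebra.counitAlgHom k A)
  have h2 : ∀ X : (A →ₗ[k] B) ⊗[k] A, E k A B k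
      ((CoalgebraStruct.counit (R := k) (A := A)).lTensor (A →ₗ[k] B) X) a = Φ (E k A B A X a) := by
    intro X
    induction X using TensorProduct.induction_on with
    | zero => simp
    | add x y hx hy => simp only [map_add, hx, hy, LinearMap.add_apply]
    | tmul ψ c => simp [E_tmul, Φ]
  show E k A B k ((CoalgebraStruct.counit (R := k) (A := A)).lTensor (A →ₗ[k] B) (coact k A B φ)) a =
    E k A B k (φ ⊗ₜ 1) a
  rw [h2, E_coact, E_tmul]
  show (Φ.toLinearMap ∘ₗ conv _ _) a = _
  rw [comp_conv, conv_apply]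
  have hρ : ∀ b : B, Φ (GLin.coactAlgHom k A B b) = b ⊗ₜ[k] (1 : k) := fun b =>
    LinearMap.congr_fun (HopfRep.Comod.counit_comp (k := k) (A := A) (V := B)) b
  conv_rhs => rw [show φ a = φ (TensorProduct.rid k A ((Coalgebra.counit (R := k)).lTensor A
    (Coalgebra.comul (R := k) a))) by simp]
  induction Coalgebra.comul (R := k) a using TensorProduct.induction_on with
  | zero => simp
  | add x y hx hy => simp only [map_add, TensorProduct.add_tmul, hx, hy]
  | tmul x y =>
    simp only [TensorProduct.map_tmul, LinearMap.mul'_apply, LinearMap.comp_apply, AlgHom.toLinearMap_apply, hρ,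
      jS_apply, LinearMap.lTensor_tmul, TensorProduct.rid_tmul, map_smul, Φ, Algebra.TensorProduct.map_tmul,
      map_one, Bialgebra.counitAlgHom_apply, HopfAlgebra.counit_antipode, AlgHom.id_apply]
    rw [Algebra.TensorProduct.tmul_mul_tmul, mul_one, one_mul, TensorProduct.smul_tmul, smul_eq_mul, mul_one]

variable (k A B) in
/-- `Hom(A,B)` as a comodule. -/
@[reducible] noncomputable def comod : HopfRep.Comod k A (A →ₗ[k] B) where
  coact := coact k A B
  coassoc := coassoc
  counit_comp := counit_comp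

theorem isHopfMod : @TameAct.IsHopfMod k _ A _ _ B _ _ (A →ₗ[k] B) _ _ _ _ _ (comod k A B) := by
  letI := comod k A B
  refine ⟨fun b φ => (E k A B A).injective (LinearMap.ext fun a => ?_)⟩
  have h : ∀ (w : B ⊗[k] A) (z : (A →ₗ[k] B) ⊗[k] A),
      E k A B A (TameAct.hmSMul k A B (A →ₗ[k] B) w z) a = w * E k A B A z a := by
    intro w z
    induction w using TensorProduct.induction_on with
    | zero => simp
    | add x y hx hy => simp only [map_add, LinearMap.add_apply, add_mul, hx, hy]
    | tmul b' c' =>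
      induction z using TensorProduct.induction_on with
      | zero => simp
      | add x y hx hy => simp only [map_add, LinearMap.add_apply, mul_add, hx, hy]
      | tmul ψ c => simp [E_tmul, Algebra.TensorProduct.tmul_mul_tmul]
  show E k A B A (coact k A B (b • φ)) a = _
  rw [show HopfRep.Comod.coact (k := k) (A := A) φ = coact k A B φ from rfl, h, E_coact, E_coact, conv_apply,
    conv_apply]
  induction Coalgebra.comul (R := k) a using TensorProduct.induction_on with
  | zero => simp
  | add x y hx hy => simp only [map_add, mul_add, hx, hy]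
  | tmul x y => simp [GLin.IsCoactAlg.coact_mul, mul_assoc]

/-- Evaluation at `1`. -/
noncomputable def eval : (A →ₗ[k] B) →ₗ[B] B := LinearMap.applyₗ' B (1 : A)

theorem isComodHom_eval :
    @Hoch.IsComodHom k _ A _ _ _ (A →ₗ[k] B) _ _ (comod k A B) B _ _ _
      ((eval (k := k) (A := A) (B := B)).restrictScalars k) := by
  letI := comod k A B
  refine LinearMap.ext fun φ => ?_
  show HopfRep.Comod.coact (k := k) (A := A) (φ 1) =
    LinearMap.rTensor A (LinearMap.applyₗ (R := k) (1 : A)) (coact k A B φ)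
  rw [eval_rTensor, E_coact, conv_apply, Bialgebra.comul_one, Algebra.TensorProduct.one_def, TensorProduct.map_tmul,
    LinearMap.mul'_apply, jS_apply, HopfAlgebra.antipode_one, ← Algebra.TensorProduct.one_def, mul_one]
  rfl

theorem isComodHom_of_fixed {φ : A →ₗ[k] B}
    (h : φ ∈ @HopfRep.fixedPts k A _ _ _ (A →ₗ[k] B) _ _ (comod k A B)) : Hoch.IsComodHom A φ := by
  letI := comod k A B
  have h' : coact k A B φ = φ ⊗ₜ[k] (1 : A) := h
  let j1 : B →ₐ[k] B ⊗[k] A := Algebra.TensorProduct.includeLeft
  let j : A →ₗ[k] B ⊗[k] A := (Algebra.TensorProduct.includeRight : A →ₐ[k] B ⊗[k] A).toLinearMap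
  have h0 : conv ((GLin.coactAlgHom k A B).toLinearMap ∘ₗ φ) (jS k A B) = j1.toLinearMap ∘ₗ φ := by
    rw [← E_coact, h']
    exact LinearMap.ext fun a => E_tmul φ 1 a
  have hSj : conv (jS k A B) j =
      Algebra.linearMap k (B ⊗[k] A) ∘ₗ Coalgebra.counit := by
    have := congrArg WithConv.ofConv (LinearMap.antipode_mul_id (R := k) (C := A))
    have h2 := comp_conv (Algebra.TensorProduct.includeRight : A →ₐ[k] B ⊗[k] A)
      (HopfAlgebraStruct.antipode k) LinearMap.id
    rw [show conv (HopfAlgebraStruct.antipode k) LinearMap.id = Algebra.linearMap k A ∘ₗ Coalgebra.counit from this,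
      LinearMap.comp_id, ← LinearMap.comp_assoc] at h2
    refine h2.symm.trans ?_
    congr 1
    exact LinearMap.ext fun c => (Algebra.TensorProduct.includeRight : A →ₐ[k] B ⊗[k] A).commutes c
  have h1 := congrArg (fun f => conv f j) h0
  simp only [conv_assoc, hSj] at h1
  refine LinearMap.ext fun a => ?_
  have h2 := LinearMap.congr_fun h1 a
  rw [show conv ((GLin.coactAlgHom k A B).toLinearMap ∘ₗ φ) (Algebra.linearMap k (B ⊗[k] A) ∘ₗ Coalgebra.counit) =
    (GLin.coactAlgHom k A B).toLinearMap ∘ₗ φ from congrArg WithConv.ofConv (mul_one _)] at h2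
  show GLin.coactAlgHom k A B (φ a) = LinearMap.rTensor A φ (Coalgebra.comul (R := k) a)
  refine h2.trans ?_
  rw [conv_apply]
  induction Coalgebra.comul (R := k) a using TensorProduct.induction_on with
  | zero => simp
  | add x y hx hy => simp only [map_add, hx, hy]
  | tmul x y => simp [j, j1, Algebra.TensorProduct.tmul_mul_tmul]

end GrothLib.HomComod
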